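import Groth.Agent.CanonVia.Indep
import Groth.Agent.RegImm38.BaseChange
import Groth.Agent.KReg44.Weakly
import Groth.Agent.KReg44.Syzygy

/-!
# Conormal frames of base changed regular immersions
-/

set_option autoImplicit false
set_option linter.style.haveILetI false

universe u

open AlgebraicGeometry CategoryTheory Limits MorphismProperty

noncomputable section

namespace Groth.Agent.CanonVia

open RegImm38

section Basis

variable {A B : Type u} [CommRing A] [CommRing B] {n : ℕ} {g : Fin n → A} {J : Ideal A} (f : A →+* B)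
  {C : Type u} [AddCommGroup C] [Module B C] (κ : J →+ C)

theorem mem_span_of_h1 {n : ℕ} (g : Fin n → A) (hg : CAlgX.IsH1Regular g) (c : Fin n → A)
    (hc : ∑ i, c i * g i = 0) (i : Fin n) : c i ∈ Ideal.span (Set.range g) := by
  have h : Submodule.span A {v : Fin n → A | ∃ i j, v = Pi.single i (g j) - Pi.single j (g i)} ≤
      Submodule.comap (LinearMap.proj i) (Ideal.span (Set.range g)) := by
    refine Submodule.span_le.2 ?_
    rintro _ ⟨p, q, rfl⟩
    simp only [SetLike.mem_coe, Submodule.mem_comap, LinearMap.proj_apply, Pi.sub_apply, Pi.single_apply]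
    refine sub_mem ?_ ?_ <;> split_ifs <;>
      first | exact zero_mem _ | exact Ideal.subset_span ⟨_, rfl⟩
  exact h (hg c hc)

/-- A universal semilinear map out of an ideal generated by an H₁-regular tuple gives a basis. -/
theorem exists_basis (hg : CAlgX.IsH1Regular g) (hJ : Ideal.span (Set.range g) = J) (hf : ∀ a ∈ J, f a = 0)
    (hκ : ∀ (b : A) (a : J), κ (b • a) = f b • κ a)
    (huniv : ∀ (N : Type u) [AddCommGroup N] [Module B N] (k : J →+ N),
      (∀ (b : A) (a : J), k (b • a) = f b • k a) → ∃! l : C →ₗ[B] N, ∀ a, l (κ a) = k a) :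
    ∃ b : Module.Basis (Fin n) B C, ∀ i (h : g i ∈ J), b i = κ ⟨g i, h⟩ := by
  have hmem : ∀ i, g i ∈ J := fun i => hJ ▸ Ideal.subset_span ⟨i, rfl⟩
  have hexp : ∀ a : J, ∃ c : Fin n → A, ∑ i, c i * g i = a.1 := fun a =>
    Ideal.mem_span_range_iff_exists_fun.1 (hJ.symm ▸ a.2)
  choose c hc using hexp
  have key : ∀ c' : Fin n → A, ∑ i, c' i * g i = 0 → ∀ i, f (c' i) = 0 := fun c' h i =>
    hf _ (hJ ▸ mem_span_of_h1 g hg c' h i)
  have hval : ∀ (a : J) (c' : Fin n → A), ∑ i, c' i * g i = a.1 → ∀ i, f (c a i) = f (c' i) := by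
    intro a c' h i
    have := key (fun i => c a i - c' i) (by simp only [sub_mul, Finset.sum_sub_distrib, hc, h, sub_self]) i
    rwa [map_sub, sub_eq_zero] at this
  let k : J →+ (Fin n → B) := AddMonoidHom.mk' (fun a i => f (c a i)) fun a a' => funext fun i => by
    rw [hval (a + a') (fun i => c a i + c a' i) (by
      simp only [add_mul, Finset.sum_add_distrib, hc]; rfl) i, map_add]
    rfl
  have hk : ∀ (b : A) (a : J), k (b • a) = f b • k a := fun b a => funext fun i => by
    show f (c (b • a) i) = f b * f (c a i)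
    rw [hval (b • a) (fun i => b * c a i) (by simp only [mul_assoc, ← Finset.mul_sum, hc]; rfl) i, map_mul]
  obtain ⟨l, hl, -⟩ := huniv _ k hk
  let v : Fin n → C := fun i => κ ⟨g i, hmem i⟩
  have hlv : ∀ i, l (v i) = Pi.single i 1 := fun i => by
    rw [hl]
    funext j
    show f (c _ j) = _
    rw [hval ⟨g i, hmem i⟩ (Pi.single i 1) (by simp [Pi.single_apply]) j, Pi.single_apply, Pi.single_apply]
    split_ifs <;> simp
  have hinv : (Fintype.linearCombination B v) ∘ₗ l = LinearMap.id := by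
    obtain ⟨m, -, hm⟩ := huniv C κ hκ
    refine (hm _ fun a => ?_).trans (hm LinearMap.id fun a => rfl).symm
    rw [LinearMap.comp_apply, hl, Fintype.linearCombination_apply]
    refine Eq.trans ?_ (congrArg κ (Subtype.ext (by
      rw [AddSubmonoidClass.coe_finsetSum]; exact hc a : ((∑ i, c a i • (⟨g i, hmem i⟩ : J) : J) : A) = a.1)))
    rw [map_sum]
    exact Finset.sum_congr rfl fun i _ => (hκ _ _).symm
  have hinv' : l ∘ₗ (Fintype.linearCombination B v) = LinearMap.id := by
    refine (Pi.basisFun B (Fin n)).ext fun i => ?_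
    simp [hlv]
  let e : C ≃ₗ[B] (Fin n → B) := LinearEquiv.ofLinear l (Fintype.linearCombination B v) hinv' hinv
  refine ⟨Module.Basis.ofEquivFun e, fun i h => ?_⟩
  rw [Module.Basis.coe_ofEquivFun]
  show Fintype.linearCombination B v (Function.update 0 i 1) = _
  rw [show Function.update (0 : Fin n → B) i 1 = Pi.single i 1 from rfl,
    Fintype.linearCombination_apply_single, one_smul]

end Basis

variable {Z X S S' : Scheme.{u}}

/-- An affine chart in which the immersion is cut out by an H₁-regular sequence of length `c`. -/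
def H1Chart (i : Z ⟶ X) (c : ℕ) (z : Z) : Prop :=
  ∃ U : X.affineOpens, i z ∈ U.1 ∧ IsClosedImmersion (i ∣_ U.1) ∧
    ∃ rs : List Γ(X, U.1), rs.length = c ∧ RegImm.Kind.h1.Seq Γ(X, U.1) rs ∧
      RingHom.ker (i.app U.1).hom = Ideal.ofList rs

theorem h1Chart_of_codim {i : Z ⟶ X} {c : ℕ} (hi : RegImm.IsRegularImmersionOfCodim .regular c i) (z : Z) :
    H1Chart i c z := by
  obtain ⟨U, hz, hcl, rs, hlen, hseq, hker⟩ := hi.2 z
  have h := Groth.Agent.KReg44.isKoszulRegularSeq_of_isWeaklyRegular _ rs rfl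
    (RingTheory.Sequence.IsRegular.toIsWeaklyRegular hseq)
  exact ⟨U, hz, hcl, rs, hlen, Groth.Agent.KReg44.isH1Regular rs.get (by rw [List.ofFn_get]; exact h), hker⟩

/-- Conormal stalks of an immersion cut out by H₁-regular sequences of length `c`. -/
theorem exists_basis_conormal_h1 (i : Z ⟶ X) [IsImmersion i] [QuasiCompact i] {c : ℕ} (z : Z)
    (hi : H1Chart i c z) :
    Nonempty (Module.Basis (Fin c) (Z.presheaf.stalk z) ((Omega.conormal i).presheaf.stalk z)) := by
  obtain ⟨U, hz, hcl, rs, hlen, hseq, hker⟩ := hi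
  subst hlen
  haveI := hcl
  have hsurj := RegImm44.app_surjective i U.2
  have hV := RegImm44.isAffineOpen_preimage i U.2
  have hk := Omega.ConormalZero.ker_stalkMap_eq i U.2 hV hz hsurj
  let φ := (X.presheaf.germ U.1 (i z) hz).hom
  have hspan0 : Ideal.ofList (rs.map φ) = RingHom.ker (i.stalkMap z).hom := by
    rw [hk, hker, Ideal.map_ofList]
  have hflat : φ.Flat := by
    letI := X.presheaf.algebra_section_stalk ⟨i z, hz⟩
    haveI := U.2.isLocalization_stalk ⟨i z, hz⟩
    exact IsLocalization.flat (X.presheaf.stalk (i z)) (U.2.primeIdealOf ⟨i z, hz⟩).asIdeal.primeCompl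
  have hne : Ideal.ofList (rs.map φ) ≠ ⊤ := by
    rw [hspan0]; exact RingHom.ker_ne_top _
  have hreg : CAlgX.IsH1Regular (rs.map φ).get := seq_map_flat .h1 φ hflat hseq hne
  have hreg' : CAlgX.IsH1Regular fun k : Fin rs.length => φ rs[k.1] :=
    congr_cast (fun {m} (g : Fin m → X.presheaf.stalk (i z)) => CAlgX.IsH1Regular g)
      (g := (rs.map φ).get) (g' := fun k : Fin rs.length => φ rs[k.1]) (List.length_map _)
      (fun k => by simp) hreg
  have hspan : Ideal.span (Set.range fun k : Fin rs.length => φ rs[k.1]) = RingHom.ker (i.stalkMap z).hom := by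
    rw [← hspan0, Ideal.ofList]
    congr 1
    ext a
    simp [List.mem_iff_get]
    exact ⟨fun ⟨y, h⟩ => ⟨y.cast (List.length_map _).symm, h⟩, fun ⟨y, h⟩ => ⟨y.cast (List.length_map _), h⟩⟩
  obtain ⟨κ, h1, -, h3⟩ := Omega.StalkConormal.exists_conormal i z i.isEmbedding.isInducing
  obtain ⟨b, -⟩ := exists_basis (i.stalkMap z).hom κ hreg' hspan (fun a ha => ha) h1 h3
  exact ⟨b⟩

theorem exists_h1_chart_of_isPullback {X' Z' : Scheme.{u}} {f : X ⟶ S} {g : S' ⟶ S} {i : Z ⟶ X}
    [Flat (i ≫ f)] {gX : X' ⟶ X} {fS : X' ⟶ S'} {i' : Z' ⟶ X'} {g' : Z' ⟶ Z}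
    (hX : IsPullback gX fS f g) (hsq : IsPullback g' i' i gX) {c : ℕ} (z' : Z') (hat : H1Chart i c (g' z')) :
    H1Chart i' c z' := by
  obtain ⟨⟨U, hU⟩, hz, hci, rs, hlen, hrs, hker⟩ := hat
  haveI := hci
  obtain ⟨V, hV, hzV, -⟩ := exists_isAffineOpen_mem_and_subset (show f (i (g' z')) ∈ (⊤ : S.Opens) from trivial)
  obtain ⟨U₁, hU₁, hz₁, hle₁⟩ := exists_isAffineOpen_mem_and_subset (show i (g' z') ∈ U ⊓ f ⁻¹ᵁ V from ⟨hz, hzV⟩)
  have hUU : U₁ ≤ U := le_trans (show U₁ ≤ U ⊓ f ⁻¹ᵁ V from hle₁) inf_le_left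
  have hUV : U₁ ≤ f ⁻¹ᵁ V := le_trans (show U₁ ≤ U ⊓ f ⁻¹ᵁ V from hle₁) inf_le_right
  haveI := RegImm44.isClosedImmersion_restrict_of_le i hUU
  set ρ := (X.presheaf.map (homOfLE hUU).op).hom
  have hρ : ρ.Flat := by
    have := (𝟙 X : X ⟶ X).flat_appLE hU hU₁ (show U₁ ≤ (𝟙 X : X ⟶ X) ⁻¹ᵁ U from hUU)
    rwa [show (𝟙 X : X ⟶ X).appLE U U₁ hUU = X.presheaf.map (homOfLE hUU).op from by
      simp [Scheme.Hom.appLE]; exact Category.id_comp _] at this
  have hker₁ : RingHom.ker (i.app U₁).hom = Ideal.ofList (rs.map ρ) := by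
    rw [RegImm44.ker_app_restrict i hU hU₁ hUU, hker, Ideal.map_ofList]
  have hrs₁ := seq_map_flat .h1 ρ hρ hrs (ofList_ne_top i hU₁ (g' z') hz₁ hker₁)
  have hw : gX (i' z') = i (g' z') := by
    rw [← Scheme.Hom.comp_apply, ← hsq.w, Scheme.Hom.comp_apply]
  obtain ⟨V', hV', hzV', hle'⟩ := exists_isAffineOpen_mem_and_subset (show fS (i' z') ∈ g ⁻¹ᵁ V by
    change g (fS (i' z')) ∈ V
    rw [← Scheme.Hom.comp_apply, ← hX.w, Scheme.Hom.comp_apply, hw]
    exact hzV)
  set U' := gX ⁻¹ᵁ U₁ ⊓ fS ⁻¹ᵁ V'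
  haveI : IsAffine _ := hV
  haveI : IsAffine _ := hV'
  haveI : IsAffine _ := hU₁
  have hU' : IsAffineOpen U' :=
    .of_isIso (Scheme.Hom.isPullback_resLE hX hle' hUV (UY := U') rfl).isoPullback.hom
  have hz' : i' z' ∈ U' := ⟨by change gX (i' z') ∈ U₁; rw [hw]; exact hz₁, hzV'⟩
  have hpo := (isIso_pushoutSection_iff hX hle' hUV (UY := U') rfl).mp
    (isIso_pushoutSection_of_isAffineOpen hX hle' hUV rfl hV hV' hU₁)
  haveI := RegImm44.isClosedImmersion_restrict hsq (inf_le_left : U' ≤ gX ⁻¹ᵁ U₁)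
  have hk' : RingHom.ker (i'.app U').hom =
      Ideal.ofList ((rs.map ρ).map (gX.appLE U₁ U' inf_le_left).hom) := by
    rw [RegImm44.ker_app_baseChange hsq hU₁ hU' inf_le_left, hker₁, Ideal.map_ofList]
  refine ⟨⟨U', hU'⟩, hz', inferInstance, _, by simp [hlen], seq_pushout (Or.inl rfl) hpo hrs₁ ?_, hk'⟩
  have hY : i ⁻¹ᵁ U₁ ≤ (i ≫ f) ⁻¹ᵁ V := fun y hy => hUV hy
  have h1 := (i ≫ f).flat_appLE hV (RegImm44.isAffineOpen_preimage i hU₁) hY
  let e := (Ideal.quotEquivOfEq hker₁.symm).trans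
    (RingHom.quotientKerEquivOfSurjective (RegImm44.app_surjective i hU₁))
  have he : ((Ideal.Quotient.mk (Ideal.ofList (rs.map ρ))).comp (f.appLE V U₁ hUV).hom) =
      e.symm.toRingHom.comp ((i ≫ f).appLE V (i ⁻¹ᵁ U₁) hY).hom := by
    refine RingHom.ext fun v => e.injective ?_
    rw [RingHom.comp_apply, RingHom.comp_apply]
    refine Eq.trans ?_ (e.apply_symm_apply _).symm
    change (i.app U₁).hom ((f.appLE V U₁ hUV).hom v) = _
    rw [Scheme.Hom.app_eq_appLE, ← CommRingCat.comp_apply, Scheme.Hom.appLE_comp_appLE]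
  rw [he]
  exact h1.comp (RingHom.Flat.of_bijective e.symm.bijective)

open Groth.Agent.PullStalk.Sky Groth.Agent.PullStalk.Exact Groth.Agent.Omega.Stalks in
/-- The conormal sheaf of a regular immersion commutes with base change when the composite to the base or the base
change is flat. -/
theorem exists_conormal_iso {X' Z' : Scheme.{u}} {f : X ⟶ S} {g : S' ⟶ S} {i : Z ⟶ X} [QuasiCompact i]
    {gX : X' ⟶ X} {fS : X' ⟶ S'} {i' : Z' ⟶ X'} {g' : Z' ⟶ Z} (hX : IsPullback gX fS f g)
    (hsq : IsPullback g' i' i gX) {c : ℕ} (hi : RegImm.IsRegularImmersionOfCodim .regular c i)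
    (hfl : Flat (i ≫ f) ∨ Flat g) :
    Nonempty ((Scheme.Modules.pullback g').obj (Omega.conormal i) ≅ Omega.conormal i') ∧
      ∀ z, Nonempty (Module.Basis (Fin c) (Z'.presheaf.stalk z) ((Omega.conormal i').presheaf.stalk z)) := by
  haveI := hi.1
  haveI : IsImmersion i' := MorphismProperty.of_isPullback hsq ‹IsImmersion i›
  haveI : QuasiCompact i' := MorphismProperty.of_isPullback hsq ‹QuasiCompact i›
  obtain ⟨φ, hφ, -⟩ := Omega.ConormalMap.existsUnique_conormalMap (i := i') (i' := i)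
    (g := gX) (gZ := g') hsq.w
  obtain ⟨hepi, hiso⟩ := S9372.result i' i gX g' hsq.flip φ hφ
  haveI := hepi
  have hb₀ : ∀ z, Nonempty (Module.Basis (Fin c) (Z'.presheaf.stalk z)
      (((Scheme.Modules.pullback g').obj (Omega.conormal i)).presheaf.stalk z)) := fun z => by
    obtain ⟨b, -⟩ := DualAbs.DetSeq.exists_pull_basis g' (Omega.conormal i) z
      (exists_basis_conormal i hi (g' z)).some
    exact ⟨b⟩
  have h : IsIso φ := by
    rcases hfl with h | h
    · haveI := h
      refine isIso_of_stalk fun z => ?_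
      obtain ⟨b₀⟩ := hb₀ z
      obtain ⟨b₁⟩ := exists_basis_conormal_h1 i' z
        (exists_h1_chart_of_isPullback hX hsq z (h1Chart_of_codim hi (g' z)))
      have hs : Function.Surjective (stalkLin φ z) := stalk_surjective φ z
      haveI := Module.Finite.of_basis b₀
      let e := b₁.equiv b₀ (Equiv.refl _)
      exact ⟨fun x y hxy => OrzechProperty.injective_of_surjective_endomorphism
        (e.toLinearMap ∘ₗ stalkLin φ z) (e.surjective.comp hs) (congrArg e hxy), hs⟩
    · haveI := h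
      haveI : Flat gX := MorphismProperty.of_isPullback hX.flip h
      exact hiso inferInstance
  exact ⟨⟨asIso φ⟩, fun z => ⟨(hb₀ z).some.map (stalkIso (asIso φ) z)⟩⟩

end Groth.Agent.CanonVia
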