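import Groth.Agent.ExtPowSt.OmegaBC
import Groth.Agent.DualAbs.SmoothImm
import Groth.Agent.ProjTwist.Tensor
import Groth.Agent.PicLaw.Basic
import Groth.Agent.KFlat.PullTensor
import Groth.Agent.NegVan.Twist
import Groth.Agent.S9372
import Groth.Agent.Omega.ConormalZero
import Groth.Agent.Omega.ConormalMap
import Groth.Prelude.Def_Canon

/-!
# Conormal sheaves of regular immersions, restricted to opens; cancellation of invertible sheaves
-/

set_option autoImplicit false
set_option linter.style.haveILetI false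

universe u

open CategoryTheory CategoryTheory.Limits AlgebraicGeometry

noncomputable section

namespace Groth.Agent.CanonVia

open Groth.Agent.PullStalk.Sky Groth.Agent.PullStalk.Exact Groth.Agent.Omega.Stalks

variable {X Z : Scheme.{u}}

/-- Cancellation of an invertible tensor factor. -/
theorem nonempty_iso_of_tensor {A B D : X.Modules} (hD : PicF.IsInvertible D)
    (e : CohB1.tensorMod A D ≅ CohB1.tensorMod B D) : Nonempty (A ≅ B) := by
  obtain ⟨M, -, ⟨m⟩⟩ := PicLaw.exists_inverse hD
  let c := fun C : X.Modules =>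
    (ProjTwist.tensOne C).symm ≪≫ ProjTwist.tensCongr (Iso.refl C) m.symm ≪≫ (ProjTwist.tensAssoc C D M).symm
  exact ⟨c A ≪≫ ProjTwist.tensCongr e (Iso.refl M) ≪≫ (c B).symm⟩

theorem isQuasicoherent_conormal (i : Z ⟶ X) [QuasiCompact i] : (Omega.conormal i).IsQuasicoherent := by
  haveI : (ClSub.idealMod i.ker).IsQuasicoherent := AmpleLib.isQCoh_idealMod _
  exact QCoh.isQuasicoherent_pullback i (ClSub.idealMod i.ker)

/-- The conormal stalks of a regular immersion are free of rank the codimension. -/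
theorem exists_basis_conormal (i : Z ⟶ X) [QuasiCompact i] {c : ℕ}
    (hi : RegImm.IsRegularImmersionOfCodim .regular c i) (z : Z) :
    Nonempty (Module.Basis (Fin c) (Z.presheaf.stalk z) ((Omega.conormal i).presheaf.stalk z)) := by
  haveI := hi.1
  obtain ⟨U, hz, hcl, rs, hlen, hseq, hker⟩ := hi.2 z
  subst hlen
  haveI := hcl
  haveI : IsAffine U.1.toScheme := U.2
  obtain ⟨hV, hsurj⟩ := IsClosedImmersion.isAffine_surjective_of_isAffine (f := i ∣_ U.1)
  rw [← Scheme.Hom.resLE_eq_morphismRestrict] at hsurj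
  have hsurj' : Function.Surjective (i.app U.1) := by
    rw [Scheme.Hom.app_eq_appLE]
    exact ((MorphismProperty.surjective CommRingCat).arrow_mk_iso_iff
      (arrowResLEAppIso i U.1 (i ⁻¹ᵁ U.1) le_rfl)).1 hsurj
  have hk := Omega.ConormalZero.ker_stalkMap_eq i U.2 hV hz hsurj'
  let g : Fin rs.length → X.presheaf.stalk (i z) := fun k => X.presheaf.germ U.1 (i z) hz rs[k.1]
  have hspan : Ideal.span (Set.range g) = RingHom.ker (i.stalkMap z).hom := by
    rw [hk, hker, Ideal.ofList, Ideal.map_span]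
    congr 1
    ext a
    simp [g, List.mem_iff_get]
  have hreg : KosZig.Reg g := by
    letI := X.presheaf.algebra_section_stalk ⟨i z, hz⟩
    haveI := U.2.isLocalization_stalk ⟨i z, hz⟩
    have h := hseq.toIsWeaklyRegular.of_isLocalization (X.presheaf.stalk (i z))
      (U.2.primeIdealOf ⟨i z, hz⟩).asIdeal.primeCompl
    refine KosZig.reg_of_isWeaklyRegular g ?_
    rw [← List.ofFn_getElem (xs := rs), List.map_ofFn] at h
    exact h
  obtain ⟨κ, h1, -, h3⟩ := Omega.StalkConormal.exists_conormal i z i.isEmbedding.isInducing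
  obtain ⟨b, -⟩ := KosZig.exists_basis (i.stalkMap z).hom κ hreg hspan (fun a ha => ha) h1 h3
  exact ⟨b⟩

/-- The conormal sheaf of an immersion restricts to the conormal sheaf of the restriction. -/
theorem nonempty_conormal_restrict (i : Z ⟶ X) [IsImmersion i] [QuasiCompact i] (W : X.Opens) :
    Nonempty ((Scheme.Modules.pullback (i ⁻¹ᵁ W).ι).obj (Omega.conormal i) ≅ Omega.conormal (i ∣_ W)) := by
  have hsq : IsPullback (i ∣_ W) (i ⁻¹ᵁ W).ι W.ι i := isPullback_morphismRestrict i W
  haveI : IsImmersion (i ∣_ W) := MorphismProperty.of_isPullback hsq.flip ‹IsImmersion i›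
  haveI : QuasiCompact (i ∣_ W) := MorphismProperty.of_isPullback hsq.flip ‹QuasiCompact i›
  obtain ⟨φ, hφ, -⟩ := Omega.ConormalMap.existsUnique_conormalMap (i := i ∣_ W) (i' := i)
    (g := W.ι) (gZ := (i ⁻¹ᵁ W).ι) hsq.w.symm
  exact ⟨@asIso _ _ _ _ φ ((S9372.result (i ∣_ W) i W.ι _ hsq φ hφ).2 inferInstance)⟩

/-- Pullback transports tensor products. -/
def pullTens {Y : Scheme.{u}} (f : Y ⟶ X) (E F : X.Modules) :
    (Scheme.Modules.pullback f).obj (CohB1.tensorMod E F) ≅
      CohB1.tensorMod ((Scheme.Modules.pullback f).obj E) ((Scheme.Modules.pullback f).obj F) :=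
  KFlat.PullTensor.pullTensorIso f E F

/-- Linear equivalence of stalks from an isomorphism. -/
def stalkIso {A B : X.Modules} (e : A ≅ B) (x : X) :
    A.presheaf.stalk x ≃ₗ[X.presheaf.stalk x] B.presheaf.stalk x :=
  LinearEquiv.ofBijective (stalkLin e.hom x) (NegVan.stalkLin_iso_bijective e x)

end Groth.Agent.CanonVia
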