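import Groth.Agent.CanonVia.Indep
import Groth.Agent.S8919

/-!
# Top exterior powers of conormal sheaves under composition
-/

set_option autoImplicit false
set_option linter.style.haveILetI false

universe u

open CategoryTheory CategoryTheory.Limits AlgebraicGeometry

noncomputable section

namespace Groth.Agent.CanonVia

open Groth.Agent.PullStalk.Sky Groth.Agent.PullStalk.Exact Groth.Agent.Omega.Stalks

variable {X P Q : Scheme.{u}}

/-- The ranks in the conormal sequence of an immersion followed by a smooth morphism. -/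
theorem rank_eq (p : P ⟶ Q) (n : ℕ) [SmoothOfRelativeDimension n p] [QuasiSeparated p]
    (i' : X ⟶ P) (i : X ⟶ Q) [IsImmersion i'] [IsImmersion i] [QuasiCompact i'] [QuasiCompact i]
    (h : i' ≫ p = i) (x : X) {a b : ℕ}
    (ba : Module.Basis (Fin a) (X.presheaf.stalk x) ((Omega.conormal i).presheaf.stalk x))
    (bb : Module.Basis (Fin b) (X.presheaf.stalk x) ((Omega.conormal i').presheaf.stalk x)) : a + n = b := by
  haveI : Smooth p := SmoothOfRelativeDimension.smooth n p
  obtain ⟨ψ, hψ, -⟩ := Omega.ConormalMap.existsUnique_conormalMap (i := i') (i' := i) (g := p) (gZ := 𝟙 X)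
    (show (𝟙 X) ≫ i = i' ≫ p by rw [Category.id_comp, h])
  obtain ⟨φ, hφ⟩ := GrpScheme.SectionConormal.exists_conormalDiff i' (OmegaSh.dOmega p)
  obtain ⟨w, hS⟩ := S9711.result p i' i h _ _ (Omega.DiagUniv.isUniversal_dOmega p) ψ hψ φ hφ
  have hst := stalk_exact hS x
  obtain ⟨bW, -⟩ := DualAbs.DetSeq.exists_pull_basis i' (Omega.sheaf p) x
    (DualAbs.SmoothImm.exists_basis_omega p n (i' x)).some
  let bC := ba.map (stalkIso ((Scheme.Modules.pullbackId X).app (Omega.conormal i)).symm x)
  haveI := Module.Projective.of_basis bW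
  obtain ⟨l, hl⟩ := Module.projective_lifting_property (stalkLin φ x) LinearMap.id hst.2.2
  have s := (hst.2.1.splitSurjectiveEquiv hst.1 ⟨l, hl⟩).1
  simpa using Fintype.card_congr ((((bC.prod bW).map s.symm)).indexEquiv bb)

/-- The conormal sheaf of a composite `j ≫ k` with `j` an `H₁`-regular immersion. -/
theorem exists_comp (j : X ⟶ P) (k : P ⟶ Q) [IsImmersion j] [IsImmersion k] [QuasiCompact j] [QuasiCompact k]
    (hj : RegImm.IsRegularImmersion RegImm.Kind.h1 j) {c d : ℕ}
    (hbj : ∀ x, Nonempty (Module.Basis (Fin d) (X.presheaf.stalk x) ((Omega.conormal j).presheaf.stalk x)))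
    (hbk : ∀ x, Nonempty (Module.Basis (Fin c) (P.presheaf.stalk x) ((Omega.conormal k).presheaf.stalk x))) :
    (∀ x, Nonempty (Module.Basis (Fin (c + d)) (X.presheaf.stalk x) ((Omega.conormal (j ≫ k)).presheaf.stalk x))) ∧
      ∀ {Dk : P.Modules} {Dj L : X.Modules},
        ExtPow.IsExtPow c (Omega.conormal k) Dk → ExtPow.IsExtPow d (Omega.conormal j) Dj →
          ExtPow.IsExtPow (c + d) (Omega.conormal (j ≫ k)) L →
            Nonempty (CohB1.tensorMod ((Scheme.Modules.pullback j).obj Dk) Dj ≅ L) := by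
  haveI := isQuasicoherent_conormal k
  haveI := isQuasicoherent_conormal j
  haveI := isQuasicoherent_conormal (j ≫ k)
  obtain ⟨a, ha, -⟩ := Omega.ConormalMap.existsUnique_conormalMap (i := j ≫ k) (i' := k) (g := 𝟙 Q) (gZ := j)
    (Category.comp_id _).symm
  obtain ⟨b, hb, -⟩ := Omega.ConormalMap.existsUnique_conormalMap (i := j) (i' := j ≫ k) (g := k) (gZ := 𝟙 X)
    (Category.id_comp _)
  obtain ⟨w, hS, -⟩ := S8919.result j k a ha b hb hj
  let e := (Scheme.Modules.pullbackId X).app (Omega.conormal (j ≫ k))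
  have w' : (a ≫ e.inv) ≫ b = 0 := by rw [Category.assoc]; exact w
  let eS : ShortComplex.mk a ((Scheme.Modules.pullbackId X).inv.app (Omega.conormal (j ≫ k)) ≫ b) w ≅
      ShortComplex.mk (a ≫ e.inv) b w' :=
    ShortComplex.isoMk (Iso.refl _) e.symm (Iso.refl _) (by simp) (by simp [e])
  have hst := fun x => stalk_exact (ShortComplex.shortExact_of_iso eS (hS w)) x
  haveI := QCoh.isQuasicoherent_pullback j (Omega.conormal k)
  have hbC : ∀ x, Nonempty (Module.Basis (Fin c) (X.presheaf.stalk x)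
      (((Scheme.Modules.pullback j).obj (Omega.conormal k)).presheaf.stalk x)) := fun x =>
    ⟨(DualAbs.DetSeq.exists_pull_basis j (Omega.conormal k) x (hbk (j x)).some).choose⟩
  have hbE : ∀ x, Nonempty (Module.Basis (Fin (c + d)) (X.presheaf.stalk x)
      ((Omega.conormal (j ≫ k)).presheaf.stalk x)) := fun x => by
    obtain ⟨bC⟩ := hbC x
    obtain ⟨bW⟩ := hbj x
    haveI := Module.Projective.of_basis bW
    obtain ⟨l, hl⟩ := Module.projective_lifting_property (stalkLin b x) LinearMap.id (hst x).2.2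
    have s := (((hst x).2.1).splitSurjectiveEquiv (hst x).1 ⟨l, hl⟩).1
    exact ⟨(((bC.prod bW).map s.symm).map (stalkIso e x)).reindex finSumFinEquiv⟩
  refine ⟨hbE, fun {Dk Dj L} hDk hDj hL => ?_⟩
  have hC := ExtPowSt.Pullback.isExtPow_pullback j hDk
  obtain ⟨i⟩ := DualAbs.DetSeq.nonempty_det_iso (𝟙 X) (a ≫ e.inv) b (fun x => (hst x).1)
    (fun x => (hst x).2.2) (fun x => (hst x).2.1) ⟨hC.choose, hC.choose_spec⟩ ⟨hDj.choose, hDj.choose_spec⟩
    ⟨hL.choose, hL.choose_spec⟩ hbC hbj fun x => hbE x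
  exact ⟨i ≪≫ (Scheme.Modules.pullbackId X).app L⟩

end Groth.Agent.CanonVia
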