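import Groth.Agent.CanonVia.Basic
import Groth.Agent.S5975
import Groth.Agent.S5016
import Groth.Agent.S1488

/-!
# Top differentials of a composite of smooth morphisms
-/

set_option autoImplicit false
set_option linter.style.haveILetI false

universe u

open CategoryTheory CategoryTheory.Limits AlgebraicGeometry

noncomputable section

namespace Groth.Agent.CanonVia

open Groth.Agent.PullStalk.Sky Groth.Agent.PullStalk.Exact Groth.Agent.Omega.Stalks

variable {X Y S : Scheme.{u}}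

/-- `f^* Λ^top Ω_{Y/S} ⊗ Λ^top Ω_{X/Y} ≅ Λ^top Ω_{X/S}`. -/
theorem nonempty_top_comp (f : X ⟶ Y) (g : Y ⟶ S) (b a : ℕ) [SmoothOfRelativeDimension a f]
    [SmoothOfRelativeDimension b g] [QuasiSeparated f] [QuasiSeparated g]
    {LY : Y.Modules} {LX L : X.Modules} (hLY : ExtPow.IsExtPow b (Omega.sheaf g) LY)
    (hLX : ExtPow.IsExtPow a (Omega.sheaf f) LX) (hL : ExtPow.IsExtPow (b + a) (Omega.sheaf (f ≫ g)) L) :
    Nonempty (CohB1.tensorMod ((Scheme.Modules.pullback f).obj LY) LX ≅ L) := by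
  haveI : Smooth f := SmoothOfRelativeDimension.smooth a f
  haveI : SmoothOfRelativeDimension (b + a) (f ≫ g) := by
    rw [add_comm]
    exact smoothOfRelativeDimension_comp a b f g
  haveI := ExtPowSt.OmegaBC.isQuasicoherent_omega g
  haveI := ExtPowSt.OmegaBC.isQuasicoherent_omega f
  haveI := ExtPowSt.OmegaBC.isQuasicoherent_omega (f ≫ g)
  haveI := QCoh.isQuasicoherent_pullback f (Omega.sheaf g)
  have hg := Omega.DiagUniv.isUniversal_dOmega g
  have hfg := Omega.DiagUniv.isUniversal_dOmega (f ≫ g)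
  have hf := Omega.DiagUniv.isUniversal_dOmega f
  obtain ⟨c₁, hc₁, -⟩ := Omega.Basic.existsUnique_diffCompat (h := f) (b := 𝟙 S) (f' := f ≫ g) (f := g)
    (Category.comp_id _) hg (OmegaSh.dOmega (f ≫ g))
  obtain ⟨c₂, hc₂, -⟩ := Omega.Basic.existsUnique_diffCompat (h := 𝟙 X) (b := g) (f' := f) (f := f ≫ g)
    (Category.id_comp _).symm hfg (OmegaSh.dOmega f)
  obtain ⟨hepi, him⟩ := S5975.result f g _ _ hg _ _ hfg _ _ hf c₁ hc₁ c₂ hc₂
  haveI : Mono c₁ := S5016.result g (f ≫ g) f rfl ((S1488.result f).mp inferInstance).2 _ _ hg _ _ hfg c₁ hc₁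
  let e := (Scheme.Modules.pullbackId X).app (Omega.sheaf (f ≫ g))
  haveI := hepi
  have w : c₁ ≫ (e.inv ≫ c₂) = 0 := by
    rw [← imageSubobject_arrow_comp c₁, Category.assoc]
    have : (imageSubobject c₁).arrow ≫ (e.inv ≫ c₂) = 0 := by
      change _ ≫ ((Scheme.Modules.pullbackId X).inv.app (Omega.sheaf (f ≫ g)) ≫ c₂) = 0
      rw [← Subobject.ofLE_arrow him.le, Category.assoc, kernelSubobject_arrow_comp, comp_zero]
    rw [this, comp_zero]
  have hS : (ShortComplex.mk c₁ (e.inv ≫ c₂) w).ShortExact :=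
    { exact := (ShortComplex.exact_iff_image_eq_kernel _).mpr him
      mono_f := inferInstance
      epi_g := inferInstance }
  have w' : (c₁ ≫ e.inv) ≫ c₂ = 0 := by rw [Category.assoc, w]
  let eS : ShortComplex.mk c₁ (e.inv ≫ c₂) w ≅ ShortComplex.mk (c₁ ≫ e.inv) c₂ w' :=
    ShortComplex.isoMk (Iso.refl _) e.symm (Iso.refl _) (by simp) (by simp)
  have hst := fun x => stalk_exact (ShortComplex.shortExact_of_iso eS hS) x
  have hC : ExtPow.IsExtPow b ((Scheme.Modules.pullback f).obj (Omega.sheaf g))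
      ((Scheme.Modules.pullback f).obj LY) := ExtPowSt.Pullback.isExtPow_pullback f hLY
  obtain ⟨i⟩ := DualAbs.DetSeq.nonempty_det_iso (𝟙 X) (c₁ ≫ e.inv) c₂ (fun x => (hst x).1)
    (fun x => (hst x).2.2) (fun x => (hst x).2.1) ⟨hC.choose, hC.choose_spec⟩ ⟨hLX.choose, hLX.choose_spec⟩
    ⟨hL.choose, hL.choose_spec⟩
    (fun x => ⟨(DualAbs.DetSeq.exists_pull_basis f (Omega.sheaf g) x
      (DualAbs.SmoothImm.exists_basis_omega g b (f x)).some).choose⟩)
    (fun x => DualAbs.SmoothImm.exists_basis_omega f a x)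
    (fun x => DualAbs.SmoothImm.exists_basis_omega (f ≫ g) (b + a) x)
  exact ⟨i ≪≫ (Scheme.Modules.pullbackId X).app L⟩

end Groth.Agent.CanonVia
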