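import Groth.Agent.CanonVia.Basic
import Groth.Agent.S9711
import Groth.Agent.S15539

/-!
# The transition isomorphism between two factorisations
-/

set_option autoImplicit false
set_option linter.style.haveILetI false

universe u

open CategoryTheory CategoryTheory.Limits AlgebraicGeometry

noncomputable section

namespace Groth.Agent.CanonVia

open Groth.Agent.PullStalk.Sky Groth.Agent.PullStalk.Exact Groth.Agent.Omega.Stalks

variable {X Z Z' : Scheme.{u}}

/-- The conormal sheaf of an immersion into a locally Noetherian scheme is coherent. -/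
theorem isCoh_conormal (i : X ⟶ Z) [IsLocallyNoetherian Z] [IsLocallyNoetherian X] [QuasiCompact i] :
    Coh.IsCoh (Omega.conormal i) := by
  have : Mono (ClSub.idealModι i.ker) := inferInstanceAs (Mono (kernel.ι _))
  exact ZClosLib.CohDescent.isCoh_pullback i _
    (CohDev.isCoh_of_mono (ClSub.idealModι i.ker) (AmpleLib.isQCoh_idealMod _) HomShQC.isCoh_structureModule)

/-- A basis of the pullback along the identity. -/
theorem exists_basis_id {c : ℕ} {M : X.Modules}
    (hb : ∀ x, Nonempty (Module.Basis (Fin c) (X.presheaf.stalk x) (M.presheaf.stalk x))) (x : X) :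
    Nonempty (Module.Basis (Fin c) (X.presheaf.stalk x)
      (((Scheme.Modules.pullback (𝟙 X)).obj M).presheaf.stalk x)) :=
  ⟨(hb x).some.map (stalkIso ((Scheme.Modules.pullbackId X).app M).symm x)⟩

/-- Composing an immersion with a smooth morphism of relative dimension `n`. -/
theorem exists_transition (p : Z' ⟶ Z) (n : ℕ) [SmoothOfRelativeDimension n p] [QuasiSeparated p]
    (i' : X ⟶ Z') (i : X ⟶ Z) [IsImmersion i'] [IsImmersion i] [QuasiCompact i'] [QuasiCompact i]
    (h : i' ≫ p = i) {c : ℕ}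
    (hb : ∀ x, Nonempty (Module.Basis (Fin c) (X.presheaf.stalk x) ((Omega.conormal i).presheaf.stalk x))) :
    (∀ x, Nonempty (Module.Basis (Fin (c + n)) (X.presheaf.stalk x) ((Omega.conormal i').presheaf.stalk x))) ∧
      ∀ {DC : X.Modules} {LP : Z'.Modules} {L : X.Modules},
        ExtPow.IsExtPow c (Omega.conormal i) DC → ExtPow.IsExtPow n (Omega.sheaf p) LP →
          ExtPow.IsExtPow (c + n) (Omega.conormal i') L →
            Nonempty (CohB1.tensorMod DC ((Scheme.Modules.pullback i').obj LP) ≅ L) := by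
  haveI : Smooth p := SmoothOfRelativeDimension.smooth n p
  haveI := isQuasicoherent_conormal i
  haveI := isQuasicoherent_conormal i'
  haveI := ExtPowSt.OmegaBC.isQuasicoherent_omega p
  have hd := Omega.DiagUniv.isUniversal_dOmega p
  obtain ⟨ψ, hψ, -⟩ := Omega.ConormalMap.existsUnique_conormalMap (i := i') (i' := i) (g := p) (gZ := 𝟙 X)
    (show (𝟙 X) ≫ i = i' ≫ p by rw [Category.id_comp, h])
  obtain ⟨φ, hφ⟩ := GrpScheme.SectionConormal.exists_conormalDiff i' (OmegaSh.dOmega p)
  obtain ⟨w, hS⟩ := S9711.result p i' i h _ _ hd ψ hψ φ hφ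
  let e := (Scheme.Modules.pullbackId X).app (Omega.conormal i')
  let f₁ : (Scheme.Modules.pullback (𝟙 X)).obj (Omega.conormal i) ⟶
      (Scheme.Modules.pullback (𝟙 X)).obj (Omega.conormal i') := ψ ≫ e.inv
  let f₂ : (Scheme.Modules.pullback (𝟙 X)).obj (Omega.conormal i') ⟶
      (Scheme.Modules.pullback i').obj (Omega.sheaf p) := e.hom ≫ φ
  have w' : f₁ ≫ f₂ = 0 := by simp [f₁, f₂, w]
  let eS : ShortComplex.mk ψ φ w ≅ ShortComplex.mk f₁ f₂ w' :=
    ShortComplex.isoMk (Iso.refl _) e.symm (Iso.refl _) (by simp [f₁]) (by simp [f₂])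
  have hS' : (ShortComplex.mk f₁ f₂ w').ShortExact := ShortComplex.shortExact_of_iso eS hS
  haveI := QCoh.isQuasicoherent_pullback (𝟙 X) (Omega.conormal i)
  haveI := QCoh.isQuasicoherent_pullback i' (Omega.sheaf p)
  have hbC := exists_basis_id hb
  have hbW : ∀ x, Nonempty (Module.Basis (Fin n) (X.presheaf.stalk x)
      (((Scheme.Modules.pullback i').obj (Omega.sheaf p)).presheaf.stalk x)) := fun x => by
    obtain ⟨b, -⟩ := DualAbs.DetSeq.exists_pull_basis i' (Omega.sheaf p) x
      (DualAbs.SmoothImm.exists_basis_omega p n (i' x)).some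
    exact ⟨b⟩
  have hst := fun x => stalk_exact hS' x
  have hbE : ∀ x, Nonempty (Module.Basis (Fin (c + n)) (X.presheaf.stalk x)
      ((Omega.conormal i').presheaf.stalk x)) := fun x => by
    obtain ⟨bC⟩ := hbC x
    obtain ⟨bW⟩ := hbW x
    haveI := Module.Projective.of_basis bW
    obtain ⟨l, hl⟩ := Module.projective_lifting_property (stalkLin f₂ x) LinearMap.id (hst x).2.2
    have s := (((hst x).2.1).splitSurjectiveEquiv (hst x).1 ⟨l, hl⟩).1
    exact ⟨(((bC.prod bW).map s.symm).map (stalkIso e x)).reindex finSumFinEquiv⟩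
  refine ⟨hbE, fun {DC LP L} hDC hLP hL => ?_⟩
  have hC := ExtPowSt.Pullback.isExtPow_pullback (𝟙 X) hDC
  have hW := ExtPowSt.Pullback.isExtPow_pullback i' hLP
  obtain ⟨a⟩ := DualAbs.DetSeq.nonempty_det_iso (𝟙 X) f₁ f₂ (fun x => (hst x).1) (fun x => (hst x).2.2)
    (fun x => (hst x).2.1) ⟨hC.choose, hC.choose_spec⟩ ⟨hW.choose, hW.choose_spec⟩
    ⟨hL.choose, hL.choose_spec⟩ hbC hbW fun x => hbE x
  exact ⟨ProjTwist.tensCongr ((Scheme.Modules.pullbackId X).app DC).symm (Iso.refl _) ≪≫ a ≪≫
    (Scheme.Modules.pullbackId X).app L⟩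

end Groth.Agent.CanonVia
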