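import Groth.Agent.CanonVia.Indep

/-!
# Independence of the factorisation, with free conormal stalks as the hypothesis
-/

set_option autoImplicit false
set_option linter.style.haveILetI false

universe u

open CategoryTheory CategoryTheory.Limits AlgebraicGeometry

namespace Groth.Agent.CanonVia

theorem nonempty_iso_of_via {X Y Z₁ Z₂ : Scheme.{u}} {f : X ⟶ Y}
    [IsLocallyNoetherian Y] [LocallyOfFiniteType f]
    (i₁ : X ⟶ Z₁) (g₁ : Z₁ ⟶ Y) (i₂ : X ⟶ Z₂) (g₂ : Z₂ ⟶ Y)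
    [IsImmersion i₁] [IsImmersion i₂]
    [QuasiCompact i₁] [QuasiCompact i₂] [QuasiSeparated g₁] [QuasiSeparated g₂]
    (h₁ : i₁ ≫ g₁ = f) (h₂ : i₂ ≫ g₂ = f) {c₁ n₁ c₂ n₂ : ℕ}
    (hb₁ : ∀ x, Nonempty (Module.Basis (Fin c₁) (X.presheaf.stalk x) ((Omega.conormal i₁).presheaf.stalk x)))
    (hg₁ : SmoothOfRelativeDimension n₁ g₁)
    (hb₂ : ∀ x, Nonempty (Module.Basis (Fin c₂) (X.presheaf.stalk x) ((Omega.conormal i₂).presheaf.stalk x)))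
    (hg₂ : SmoothOfRelativeDimension n₂ g₂)
    {ω₁ ω₂ : X.Modules} (hω₁ : Canon.IsCanonicalVia i₁ g₁ c₁ n₁ ω₁) (hω₂ : Canon.IsCanonicalVia i₂ g₂ c₂ n₂ ω₂) :
    Nonempty (ω₁ ≅ ω₂) := by
  rcases isEmpty_or_nonempty X with hemp | hne
  · exact DualAbs.SmoothImm.nonempty_iso_of_isEmpty _ _
  obtain ⟨DC₁, DΩ₁, hDC₁, hDΩ₁, ⟨e₁⟩⟩ := hω₁
  obtain ⟨DC₂, DΩ₂, hDC₂, hDΩ₂, ⟨e₂⟩⟩ := hω₂
  haveI := hg₁
  haveI := hg₂
  haveI : Smooth g₁ := SmoothOfRelativeDimension.smooth n₁ g₁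
  haveI : Smooth g₂ := SmoothOfRelativeDimension.smooth n₂ g₂
  haveI : IsLocallyNoetherian X := LocallyOfFiniteType.isLocallyNoetherian f
  haveI : IsLocallyNoetherian Z₁ := LocallyOfFiniteType.isLocallyNoetherian g₁
  haveI : IsLocallyNoetherian Z₂ := LocallyOfFiniteType.isLocallyNoetherian g₂
  let i₃ : X ⟶ pullback g₁ g₂ := pullback.lift i₁ i₂ (h₁.trans h₂.symm)
  let p₁ := pullback.fst g₁ g₂
  let p₂ := pullback.snd g₁ g₂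
  have w₁ : i₃ ≫ p₁ = i₁ := pullback.lift_fst _ _ _
  have w₂ : i₃ ≫ p₂ = i₂ := pullback.lift_snd _ _ _
  haveI : SmoothOfRelativeDimension n₂ p₁ :=
    haveI := smoothOfRelativeDimension_isStableUnderBaseChange.{u} (n := n₂)
    MorphismProperty.of_isPullback (IsPullback.of_hasPullback g₁ g₂).flip inferInstance
  haveI : SmoothOfRelativeDimension n₁ p₂ :=
    haveI := smoothOfRelativeDimension_isStableUnderBaseChange.{u} (n := n₁)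
    MorphismProperty.of_isPullback (IsPullback.of_hasPullback g₁ g₂) inferInstance
  haveI : IsImmersion i₃ := by
    haveI : IsImmersion (i₃ ≫ p₁) := by rw [w₁]; infer_instance
    exact IsImmersion.of_comp i₃ p₁
  haveI : QuasiCompact i₃ := by
    haveI : QuasiCompact (i₃ ≫ p₁) := by rw [w₁]; infer_instance
    exact QuasiCompact.of_comp i₃ p₁
  obtain ⟨hE₁, ht₁⟩ := exists_transition p₁ n₂ i₃ i₁ w₁ hb₁
  obtain ⟨hE₂, ht₂⟩ := exists_transition p₂ n₁ i₃ i₂ w₂ hb₂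
  let x : X := Classical.arbitrary X
  have hdim : c₂ + n₁ = c₁ + n₂ := by
    simpa using Fintype.card_congr ((hE₂ x).some.indexEquiv (hE₁ x).some)
  haveI := isQuasicoherent_conormal i₃
  obtain ⟨L, hL⟩ := ExtPowSt.Exists.exists_isExtPow (c₁ + n₂) (Omega.conormal i₃)
  have hP₁ : ExtPow.IsExtPow n₂ (Omega.sheaf p₁) ((Scheme.Modules.pullback p₂).obj DΩ₂) :=
    S15539.result Z₂ Y _ Z₁ g₂ p₁ p₂ g₁ (IsPullback.of_hasPullback g₁ g₂).flip n₂ DΩ₂ hDΩ₂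
  have hP₂ : ExtPow.IsExtPow n₁ (Omega.sheaf p₂) ((Scheme.Modules.pullback p₁).obj DΩ₁) :=
    S15539.result Z₁ Y _ Z₂ g₁ p₂ p₁ g₂ (IsPullback.of_hasPullback g₁ g₂) n₁ DΩ₁ hDΩ₁
  obtain ⟨a₁⟩ := ht₁ hDC₁ hP₁ hL
  obtain ⟨a₂⟩ := ht₂ hDC₂ hP₂ (show ExtPow.IsExtPow (c₂ + n₁) (Omega.conormal i₃) L by rw [hdim]; exact hL)
  let b₁ : (Scheme.Modules.pullback i₂).obj DΩ₂ ≅ (Scheme.Modules.pullback i₃).obj ((Scheme.Modules.pullback p₂).obj DΩ₂) :=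
    (Scheme.Modules.pullbackCongr w₂.symm).app DΩ₂ ≪≫ ((Scheme.Modules.pullbackComp i₃ p₂).app DΩ₂).symm
  let b₂ : (Scheme.Modules.pullback i₁).obj DΩ₁ ≅ (Scheme.Modules.pullback i₃).obj ((Scheme.Modules.pullback p₁).obj DΩ₁) :=
    (Scheme.Modules.pullbackCongr w₁.symm).app DΩ₁ ≪≫ ((Scheme.Modules.pullbackComp i₃ p₁).app DΩ₁).symm
  -- DC₁ ⊗ i₂^*DΩ₂ ≅ DC₂ ⊗ i₁^*DΩ₁
  let t : CohB1.tensorMod DC₁ (CohB1.tensorMod ω₂ DC₂) ≅ CohB1.tensorMod DC₂ (CohB1.tensorMod ω₁ DC₁) :=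
    ProjTwist.tensCongr (Iso.refl DC₁) (e₂ ≪≫ b₁) ≪≫ a₁ ≪≫ a₂.symm ≪≫
      ProjTwist.tensCongr (Iso.refl DC₂) (e₁ ≪≫ b₂).symm
  have hI₁ := DualAbs.SmoothImm.isInvertible_top (isCoh_conormal i₁) hDC₁ hb₁
  have hI₂ := DualAbs.SmoothImm.isInvertible_top (isCoh_conormal i₂) hDC₂ hb₂
  obtain ⟨t₁⟩ := nonempty_iso_of_tensor hI₁ ((ProjTwist.tensComm (CohB1.tensorMod ω₂ DC₂) DC₁) ≪≫ t ≪≫
    (ProjTwist.tensAssoc DC₂ ω₁ DC₁).symm)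
  exact nonempty_iso_of_tensor hI₂ (ProjTwist.tensComm ω₁ DC₂ ≪≫ t₁.symm)

end Groth.Agent.CanonVia
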